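import Groth.Agent.H52.CubeApps
import Groth.Agent.H3.CubeRel
import Groth.Agent.H4.NPowEtale
import Groth.Agent.H4.PicZero.CubeBase
import Groth.Agent.Lib.GrpQProj89.Basic
import Groth.Agent.Lib.SumihiroQP89.Main
import Groth.Agent.S5654
import Groth.Agent.Lib.GrpQ.AffKer2
import Groth.Agent.Lib.GrpQ.KerRho
import Groth.Agent.Lib.GrpQ.AntiAffSmooth
import Groth.Agent.Lib.GrpQ.AntiAff
import Groth.Agent.Lib.GrpQ.FfMonoGrp
import Groth.Agent.S3030

/-!
Group schemes of finite type killed by a positive integer are affine.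
-/

set_option autoImplicit false
set_option linter.style.haveILetI false

universe u

open CategoryTheory CategoryTheory.Limits MonoidalCategory CartesianMonoidalCategory MonObj GrpObj AlgebraicGeometry

namespace Groth.Agent.Lib.KilledAff89

open Groth.Agent Groth.Agent.Lib Groth.Agent.H3

noncomputable section

local instance (Y : Scheme.{u}) : PicGrp.Law Y := Groth.Agent.Lib.TensorMod.Invertible.law Y

theorem pow_sq_eq_one {A : Type*} [CommGroup A] (P : ℕ → A) (h0 : P 0 = 1)
    (h : ∀ a, P (a + 2) * P a * (P 1 * P 1) = P (a + 1) * P (a + 1) * P 2)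
    {n : ℕ} (hn : P n = 1) (hn1 : P (n + 1) = P 1) : P 1 ^ (n * n) = 1 := by
  let K := P 2 / (P 1 * P 1)
  have hD : ∀ a, P (a + 1) = P a * (P 1 * K ^ a) := fun a => by
    induction a with
    | zero => simp [h0]
    | succ a ih =>
      have e : P (a + 1 + 1) = P (a + 1) * P (a + 1) * P 2 / (P a * (P 1 * P 1)) :=
        eq_div_iff_mul_eq'.2 (by rw [← _root_.mul_assoc]; exact h a)
      have e2 : P (a + 1) / P a = P 1 * K ^ a := by rw [ih, mul_div_cancel_left]
      rw [e, pow_succ, ← _root_.mul_assoc (P 1), ← e2]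
      simp only [K, div_eq_mul_inv, _root_.mul_inv]
      ac_rfl
  have hK : K ^ n = 1 := by
    have e := hD n
    rwa [hn1, hn, _root_.one_mul, eq_comm, mul_eq_left] at e
  have hP : ∀ a, P a ^ n = P 1 ^ (a * n) := fun a => by
    induction a with
    | zero => simp [h0]
    | succ a ih =>
      rw [hD a, mul_pow, mul_pow, ih, ← pow_mul K, mul_comm a n, pow_mul K, hK, one_pow, _root_.mul_one, ← pow_add]
      congr 1
      ring
  rw [← hP n, hn, one_pow]

variable {k : Type u} [Field k]

/-- The cube relation for a connected smooth group over an algebraically closed field. -/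
theorem cube [IsAlgClosed k] {G : Over (Spec (CommRingCat.of k))} [GrpObj G] [Smooth G.hom] [IsSeparated G.hom]
    [QuasiCompact G.hom] [GeometricallyIntegral G.hom] (f g h : G ⟶ G) (c : PicLoc.PicSet G.left) :
    PicCalc.ph (f * g * h) c * PicCalc.ph f c * (PicCalc.ph g c * PicCalc.ph h c) =
      PicCalc.ph (f * g) c * PicCalc.ph (f * h) c * (PicCalc.ph (g * h) c * PicCalc.ph (1 : G ⟶ G) c) := by
  let m : G ⊗ G ⊗ G ⟶ G := fst G (G ⊗ G) * ((snd G (G ⊗ G) ≫ fst G G) * (snd G (G ⊗ G) ≫ snd G G))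
  let s : G ⟶ (G ⊗ G) ⊗ (G ⊗ G) ⊗ (G ⊗ G) := lift (lift f 1) (lift (lift g 1) (lift h 1))
  have e := congrArg (PicCalc.ph s) (H52.CubeApps.eight (U := G) (V := G) (W := G) (PicCalc.ph m c))
  simp only [map_mul, ← PicCalc.ph_comp, H52.CubeApps.p3, s, m, MonObj.comp_mul, comp_lift,
    lift_fst, lift_snd, lift_fst_assoc, lift_snd_assoc, Category.assoc, _root_.one_mul,
    _root_.mul_one, ← _root_.mul_assoc] at e
  simp only [← _root_.mul_assoc]
  exact e

/-- The connected smooth case over an algebraically closed field. -/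
theorem isAffine_of_killed_algClosed [IsAlgClosed k] (G : Over (Spec (CommRingCat.of k))) [GrpObj G]
    [Smooth G.hom] [QuasiCompact G.hom] [ConnectedSpace G.left] {n : ℕ} (hn : 0 < n)
    (h : (𝟙 G : G ⟶ G) ^ n = 1) : IsAffine G.left := by
  haveI := GrpSch.isSeparated_of_field G
  haveI : IsIntegral G.left := H2.Rigid.GeomIrred.isIntegral_of_smooth G.hom
  haveI : GeometricallyIntegral G.hom := SumihiroQP89.geometricallyIntegral_of_irreducible G.hom
  obtain ⟨L, hL⟩ := GrpQProj89.exists_isAmple G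
  let c : PicLoc.PicSet G.left := PicGrp.cls L hL.1
  let P : ℕ → PicLoc.PicSet G.left := fun a => PicCalc.ph ((𝟙 G : G ⟶ G) ^ a) c
  have hone : PicCalc.ph (1 : G ⟶ G) c = 1 := CubeRel.ph_one G c
  have key : c ^ (n * n) = 1 := by
    have h1 : P 1 = c := by simp only [P, pow_one, PicCalc.ph_id]
    rw [← h1]
    refine pow_sq_eq_one P (by simp only [P, pow_zero, hone]) (fun a => ?_) (by simp only [P, h, hone])
      (by simp only [P, pow_succ, h, _root_.one_mul, pow_zero])
    have e := cube ((𝟙 G : G ⟶ G) ^ a) (𝟙 G) (𝟙 G) c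
    simp only [← pow_succ, ← pow_two, hone, _root_.mul_one] at e
    simp only [P, pow_one]
    simp only [pow_two, _root_.mul_assoc] at e ⊢
    exact e
  obtain ⟨e⟩ : Nonempty (CohB1.tensorPow L (n * n) ≅ Coh.structureModule G.left) :=
    (PicCalc.iso_iff (H4.PicZero.cl_tensorPow (a := c) rfl (n * n))
      (b := (1 : PicLoc.PicSet G.left)) PicGrp.one_val.symm).2 key
  have hO : CohB1.IsAmple (Coh.structureModule G.left) :=
    Ample.Pow.isAmple_of_iso e ((Ample.Pow.isAmple_tensorPow_iff hL.1 (Nat.mul_pos hn hn)).1 hL)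
  haveI : IsMonHom (toUnit G) := inferInstance
  haveI : LocallyOfFiniteType (𝟙_ (Over (Spec (CommRingCat.of k)))).hom :=
    inferInstanceAs (LocallyOfFiniteType (𝟙 (Spec (CommRingCat.of k))))
  haveI : IsAffineHom G.hom := Groth.Agent.S5654.result k G (𝟙_ _) (toUnit G)
    ((Ample.RelAmple.isQuasiAffine_iff_isRelAmple G.hom).2 ((Ample.RelAmple.isRelAmple_iff_isAmple G.hom).2 hO))
  exact isAffine_of_isAffineHom G.hom

/-- Group schemes of finite type over a field killed by a positive integer are affine. -/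
theorem isAffine_of_killed (G : Over (Spec (CommRingCat.of k))) [GrpObj G] [LocallyOfFiniteType G.hom]
    [QuasiCompact G.hom] {n : ℕ} (hn : 0 < n) (h : (𝟙 G : G ⟶ G) ^ n = 1) : IsAffine G.left := by
  let K := AlgebraicClosure k
  let b := GrpSch.extBase k K
  let G' := Red.bc b G
  haveI : LocallyOfFiniteType G'.hom := GrpSch.bc_hom_of (P := @LocallyOfFiniteType) b G ‹_›
  haveI : QuasiCompact G'.hom := GrpSch.bc_hom_of (P := @QuasiCompact) b G ‹_›
  have h' : (𝟙 G' : G' ⟶ G') ^ n = 1 := by
    have e : (Over.pullback b).homMonoidHom ((𝟙 G : G ⟶ G) ^ n) = (Over.pullback b).homMonoidHom 1 :=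
      congrArg _ h
    rw [map_pow, map_one] at e
    simpa [Functor.homMonoidHom] using e
  obtain ⟨_, _⟩ := GrpQ.Affinization.exists_grp G'
  haveI := GrpSch.isSeparated_of_field (GrpQ.Affinization.aff G')
  obtain ⟨N, _, i, hi, hcl, hK, -⟩ := GrpQ.exists_kernel (GrpQ.Affinization.rho G')
  haveI : LocallyOfFiniteType N.hom := by rw [← Over.w i]; infer_instance
  haveI : QuasiCompact N.hom := by rw [← Over.w i]; infer_instance
  haveI := GrpQ.KerRho.isIso_appTop_kernel i hK
  have hbij : Function.Bijective ((Scheme.ΓSpecIso (CommRingCat.of K)).inv ≫ N.hom.appTop).hom :=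
    ConcreteCategory.bijective_of_isIso _
  haveI := GrpQ.AntiAffSmooth.smooth N hbij
  haveI := GrpQ.AntiAff.connectedSpace hbij
  haveI : Mono i := GrpQ.mono_of_left i
  haveI : IsAffine N.left := isAffine_of_killed_algClosed N hn (by
    rw [← cancel_mono i, MonObj.pow_comp, Category.id_comp, MonObj.one_comp]
    calc (i : N ⟶ G') ^ n = i ≫ ((𝟙 G' : G' ⟶ G') ^ n) := by rw [MonObj.comp_pow, Category.comp_id]
      _ = 1 := by rw [h', MonObj.comp_one])
  obtain ⟨hs, hf, -⟩ := GrpQ.Affinization.rho_faithfullyFlat G'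
  haveI := GrpQ.AffKer.isAffineHom_of_kernel i (GrpQ.Affinization.rho G') hK
  haveI : IsAffine G'.left := isAffine_of_isAffineHom (GrpQ.Affinization.rho G').left
  haveI := Lib.Tori.AffineDescent.descendsAlong_isAffineHom.{u}
  haveI : IsAffineHom G.hom := GrpSch.of_bc_hom k K (P := @IsAffineHom) G
    (show IsAffineHom G'.hom from inferInstance)
  exact isAffine_of_isAffineHom G.hom

/-- The kernel pair factorisation of a homomorphism with killed target quotient. -/
theorem surjective_of_killed_quotient (G : Over (Spec (CommRingCat.of k))) [GrpObj G] [IsCommMonObj G] [Smooth G.hom]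
    [QuasiCompact G.hom]
    (hG : Function.Bijective ((Scheme.ΓSpecIso (CommRingCat.of k)).inv ≫ G.hom.appTop).hom)
    {n : ℕ} (hn : 0 < n) :
    Surjective ((𝟙 G : G ⟶ G) ^ n).left ∧ Flat ((𝟙 G : G ⟶ G) ^ n).left := by
  let u : G ⟶ G := (𝟙 G : G ⟶ G) ^ n
  haveI : IsMonHom u := H4.NPowEtale.isMonHom_pow_id G n
  haveI := GrpSch.isSeparated_of_field G
  haveI := GrpQ.quasiCompact_left u
  obtain ⟨K, _, j, hj, hjc, hK, -⟩ := GrpQ.exists_kernel u
  haveI : LocallyOfFinitePresentation G.hom := inferInstance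
  obtain ⟨Z, _, p, w, hp, hw, hpw, hps, hpf, hpl, hwm, hZ, -, -⟩ :=
    GrpQ.FfMono.exists_quot_kernel u j hK (GrpSch.flat_of_isField (Field.toIsField k) K.hom) (Or.inl inferInstance)
  haveI := hwm
  haveI : QuasiCompact Z.hom := by
    haveI : QuasiCompact (p.left ≫ Z.hom) := by rw [Over.w]; infer_instance
    haveI : CompactSpace G.left := QuasiCompact.compactSpace_of_compactSpace G.hom
    haveI : CompactSpace Z.left := p.left.surjective.compactSpace p.left.continuous
    exact (quasiCompact_iff_compactSpace Z.hom).2 inferInstance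
  haveI := GrpQ.quasiCompact_left w
  haveI : IsClosedImmersion w.left := GrpQ.MonoClosed.isClosedImmersion_of_mono w
  haveI : Flat Z.hom := GrpSch.flat_of_isField (Field.toIsField k) Z.hom
  haveI : Flat G.hom := inferInstance
  have hN : AlgGrp.IsNormalHom w := fun T g z => ⟨z, by rw [mul_comm g, _root_.mul_assoc, mul_inv_cancel, _root_.mul_one]⟩
  obtain ⟨Q, _, q, hq, hqf, hqs, hql, hqK, hQs, -, hQsm⟩ := Groth.Agent.S3030.result k Z G w hN
  haveI := hQsm inferInstance
  haveI : QuasiCompact Q.hom := by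
    haveI : QuasiCompact (q.left ≫ Q.hom) := by rw [Over.w]; infer_instance
    haveI : CompactSpace G.left := QuasiCompact.compactSpace_of_compactSpace G.hom
    haveI : CompactSpace Q.left := q.left.surjective.compactSpace q.left.continuous
    exact (quasiCompact_iff_compactSpace Q.hom).2 inferInstance
  have hQn : (𝟙 Q : Q ⟶ Q) ^ n = 1 := by
    refine GrpQ.FfMono.cancel_over q ?_
    rw [MonObj.comp_pow, Category.comp_id, MonObj.comp_one, ← Category.id_comp q, ← MonObj.pow_comp]
    change u ≫ q = 1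
    rw [← hpw, Category.assoc, GrpQ.kernel_comp hqK, MonObj.comp_one]
  haveI : IsAffine Q.left := isAffine_of_killed Q hn hQn
  haveI : IsIso (toUnit G).left.appTop := by
    haveI : IsIso ((Scheme.ΓSpecIso (CommRingCat.of k)).inv ≫ G.hom.appTop) :=
      (ConcreteCategory.isIso_iff_bijective _).2 hG
    exact IsIso.of_isIso_comp_left (Scheme.ΓSpecIso (CommRingCat.of k)).inv G.hom.appTop
  obtain ⟨c, hc⟩ := GrpQ.Affinization.exists_fac (toUnit G) q
  have hq1 : q = 1 := by
    have hc1 : c = η[G] ≫ q := by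
      rw [← hc, ← Category.assoc, toUnit_unique (η[G] ≫ toUnit G) (𝟙 _), Category.id_comp]
    rw [← hc, hc1, IsMonHom.one_hom, Hom.one_def]
  obtain ⟨s, hs⟩ := (GrpQ.mem_kernel hqK (𝟙 G)).2 (by rw [Category.id_comp, hq1])
  haveI : IsIso w := ⟨s, by rw [← cancel_mono w, Category.assoc, hs, Category.comp_id, Category.id_comp], hs⟩
  haveI : IsIso w.left := (Over.forget _).map_isIso w
  change Surjective u.left ∧ Flat u.left
  rw [← hpw, Over.comp_left]
  exact ⟨inferInstance, inferInstance⟩

end

end Groth.Agent.Lib.KilledAff89
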