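import Groth.Agent.Lib.KilledAff89.Basic
import Groth.Agent.Lib.Flat55.FlatEquidim
import Groth.Agent.Lib.ActSep.GrpArt
import Groth.Agent.H4.AbSchMul
import Groth.Agent.S3293

/-!
Power maps of commutative algebraic groups.
-/

set_option autoImplicit false
set_option linter.style.haveILetI false

universe u

open CategoryTheory CategoryTheory.Limits MonoidalCategory CartesianMonoidalCategory MonObj GrpObj AlgebraicGeometry

namespace Groth.Agent.Lib.KilledAff89

open Groth.Agent Groth.Agent.Lib

noncomputable section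

variable {k : Type u} [Field k]

/-- The `n`-th power map of a commutative group scheme of finite type is affine. -/
theorem isAffineHom_pow (G : Over (Spec (CommRingCat.of k))) [GrpObj G] [IsCommMonObj G]
    [LocallyOfFiniteType G.hom] [QuasiCompact G.hom] {n : ℕ} (hn : 0 < n) :
    IsAffineHom ((𝟙 G : G ⟶ G) ^ n).left := by
  let u : G ⟶ G := (𝟙 G : G ⟶ G) ^ n
  haveI : IsMonHom u := H4.NPowEtale.isMonHom_pow_id G n
  haveI := GrpSch.isSeparated_of_field G
  obtain ⟨K, _, j, hj, hjc, hK, -⟩ := GrpQ.exists_kernel u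
  haveI : LocallyOfFiniteType K.hom := by rw [← Over.w j]; infer_instance
  haveI : QuasiCompact K.hom := by rw [← Over.w j]; infer_instance
  haveI : Mono j := GrpQ.mono_of_left j
  haveI : IsAffine K.left := isAffine_of_killed K hn (by
    rw [← cancel_mono j, MonObj.pow_comp, Category.id_comp, MonObj.one_comp]
    calc (j : K ⟶ G) ^ n = j ≫ u := by rw [MonObj.comp_pow, Category.comp_id]
      _ = 1 := GrpQ.kernel_comp hK)
  haveI : LocallyOfFinitePresentation G.hom := inferInstance
  obtain ⟨Z, _, p, w, hp, hw, hpw, hps, hpf, hpl, hwm, hZ, -, hKp⟩ :=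
    GrpQ.FfMono.exists_quot_kernel u j hK (GrpSch.flat_of_isField (Field.toIsField k) K.hom) (Or.inl inferInstance)
  haveI := hwm
  haveI : QuasiCompact Z.hom := by
    haveI : CompactSpace G.left := QuasiCompact.compactSpace_of_compactSpace G.hom
    haveI : CompactSpace Z.left := p.left.surjective.compactSpace p.left.continuous
    exact (quasiCompact_iff_compactSpace Z.hom).2 inferInstance
  haveI := GrpQ.quasiCompact_left w
  haveI : IsClosedImmersion w.left := GrpQ.MonoClosed.isClosedImmersion_of_mono w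
  haveI := GrpQ.AffKer.isAffineHom_of_kernel j p hKp
  change IsAffineHom u.left
  rw [← hpw, Over.comp_left]
  infer_instance

/-- A flat surjective endomorphism of a connected smooth group scheme is finite. -/
theorem isFinite_of_flat_surjective_endo (G : Over (Spec (CommRingCat.of k))) [GrpObj G] [LocallyOfFiniteType G.hom]
    [QuasiCompact G.hom] [IrreducibleSpace G.left] (u : G ⟶ G) [IsMonHom u] [Flat u.left] : IsFinite u.left := by
  haveI : LocallyOfFiniteType (u.left ≫ G.hom) := by rw [Over.w]; infer_instance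
  haveI : LocallyOfFiniteType u.left := locallyOfFiniteType_of_comp u.left G.hom
  haveI := GrpQ.quasiCompact_left u
  let d := VarDim.Basic.pdim G.hom (genericPoint G.left)
  have hd : ∀ y : G.left, Flat55.FlatEquidim.IsMax y → VarDim.Basic.pdim G.hom y = d := fun y hy => by
    rw [Flat55.FlatEquidim.eq_genericPoint_of_isMax hy]
  have h0 := (Flat55.FlatEquidim.forall_isMax_iff u.left G.hom G.hom (Over.w u) d 0 hd).1
    (fun z hz => by rw [hd z hz, Nat.add_zero])
  haveI : LocallyQuasiFinite u.left := Flat55.FlatEquidim.locallyQuasiFinite_of_fibreDimAt_le_zero u.left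
    fun x => (Flat55.FlatEquidim.fibreDimAt_eq_of_forall u.left 0 h0 x).le
  exact ActSep.isFinite_of_locallyQuasiFinite u

theorem surjective_and_isFinite_zpow (G : Over (Spec (CommRingCat.of k))) [GrpObj G] [Smooth G.hom]
    [QuasiCompact G.hom]
    (hG : Function.Bijective ((Scheme.ΓSpecIso (CommRingCat.of k)).inv ≫ G.hom.appTop).hom) (z : ℤ) (hz : z ≠ 0) :
    Surjective ((𝟙 G : G ⟶ G) ^ z).left ∧ IsFinite ((𝟙 G : G ⟶ G) ^ z).left := by
  obtain ⟨hc, hcomm⟩ := Groth.Agent.S3293.result k G hG
  haveI := hcomm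
  haveI := hc
  haveI : IsIntegral G.left := H2.Rigid.GeomIrred.isIntegral_of_smooth G.hom
  have key : ∀ n : ℕ, 0 < n → Surjective ((𝟙 G : G ⟶ G) ^ n).left ∧ IsFinite ((𝟙 G : G ⟶ G) ^ n).left :=
    fun n hn => by
      obtain ⟨hs, hf⟩ := surjective_of_killed_quotient G hG hn
      haveI := hf
      haveI := H4.NPowEtale.isMonHom_pow_id G n
      exact ⟨hs, isFinite_of_flat_surjective_endo G _⟩
  rcases Int.eq_nat_or_neg z with ⟨n, rfl | rfl⟩
  · rw [zpow_natCast]; exact key n (by omega)
  · obtain ⟨hs, hf⟩ := key n (by omega)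
    have e : (𝟙 G : G ⟶ G) ^ (-(n : ℤ)) = ((𝟙 G : G ⟶ G) ^ n) ≫ ι[G] := by
      rw [zpow_neg, zpow_natCast, Hom.inv_def]
    rw [e, Over.comp_left]
    haveI : IsIso ι[G] := inferInstance
    haveI : IsIso ι[G].left := (Over.forget _).map_isIso ι[G]
    exact ⟨inferInstance, inferInstance⟩

end

end Groth.Agent.Lib.KilledAff89
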